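import Mathlib
import Groth.Prelude

/-! helper7: principal parts of finite order of a finitely presented algebra form a finitely
presented module (S3814): the augmentation has finitely generated nilpotent kernel. -/

set_option linter.style.haveILetI false
set_option linter.unusedVariables false
set_option linter.unusedSectionVars false

open TensorProduct

namespace Groth.Agent.Helper7.PP

universe u

section

variable (n : ℕ) (A B : Type u) [CommRing A] [CommRing B] [Algebra A B]

/-- The augmentation `P^n_{B/A} → B` as a `B`-algebra map. -/
noncomputable def aug : PP16.P n A B →ₐ[B] B :=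
  Ideal.Quotient.liftₐ ((KaehlerDifferential.ideal A B) ^ (n + 1))
    (Algebra.TensorProduct.lmul'' A (S := B))
    (fun x hx => by
      have h1 : (KaehlerDifferential.ideal A B) ^ (n + 1) ≤ KaehlerDifferential.ideal A B :=
        Ideal.pow_le_self (Nat.succ_ne_zero n)
      have h2 := h1 hx
      rw [KaehlerDifferential.ideal, RingHom.mem_ker] at h2
      exact h2)

theorem aug_mk (x : B ⊗[A] B) :
    aug n A B (Ideal.Quotient.mk _ x) = Algebra.TensorProduct.lmul'' A (S := B) x := rfl

theorem aug_surjective : Function.Surjective (aug n A B) := by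
  intro b
  refine ⟨Ideal.Quotient.mk _ (b ⊗ₜ 1), ?_⟩
  rw [aug_mk]
  simp [Algebra.TensorProduct.lmul'']

theorem ker_aug : RingHom.ker (aug n A B) =
    (KaehlerDifferential.ideal A B).map
      (Ideal.Quotient.mk ((KaehlerDifferential.ideal A B) ^ (n + 1))) := by
  apply le_antisymm
  · intro y hy
    obtain ⟨x, rfl⟩ := Ideal.Quotient.mk_surjective y
    rw [RingHom.mem_ker] at hy
    change aug n A B (Ideal.Quotient.mk _ x) = 0 at hy
    rw [aug_mk] at hy
    apply Ideal.mem_map_of_mem
    rw [KaehlerDifferential.ideal, RingHom.mem_ker]
    exact hy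
  · rw [Ideal.map_le_iff_le_comap]
    intro x hx
    rw [Ideal.mem_comap, RingHom.mem_ker]
    change aug n A B (Ideal.Quotient.mk _ x) = 0
    rw [aug_mk]
    rw [KaehlerDifferential.ideal, RingHom.mem_ker] at hx
    exact hx

theorem finite_P [Algebra.FiniteType A B] : Module.Finite B (PP16.P n A B) := by
  refine Module.finite_of_surjective_of_ker_le_nilradical (aug n A B) (aug_surjective n A B) ?_ ?_
  · rw [ker_aug]
    intro y hy
    rw [mem_nilradical]
    refine ⟨n + 1, ?_⟩
    have h1 : y ^ (n + 1) ∈ ((KaehlerDifferential.ideal A B).map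
      (Ideal.Quotient.mk ((KaehlerDifferential.ideal A B) ^ (n + 1)))) ^ (n + 1) :=
      Ideal.pow_mem_pow hy _
    rw [← Ideal.map_pow, Ideal.map_quotient_self] at h1
    exact h1
  · rw [ker_aug]
    exact (KaehlerDifferential.ideal_fg (R := A) (S := B)).map _

theorem finitePresentation_P [Algebra.FinitePresentation A B] :
    Module.FinitePresentation B (PP16.P n A B) := by
  haveI : Algebra.FiniteType A B := inferInstance
  haveI := finite_P n A B
  haveI : Algebra.FinitePresentation B (B ⊗[A] B) := inferInstance
  haveI : Algebra.FinitePresentation B (PP16.P n A B) :=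
    Algebra.FinitePresentation.quotient
      ((KaehlerDifferential.ideal_fg (R := A) (S := B)).pow (n := n + 1))
  exact Module.FinitePresentation.of_finite_of_finitePresentation B (PP16.P n A B)

end

end Groth.Agent.Helper7.PP
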